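import Cfsg.Agent.Lib.PG.Gen

set_option autoImplicit false
set_option maxRecDepth 100000
set_option Elab.async false
set_option exponentiation.threshold 100000

namespace Cfsg.Agent.Lib.C4.B7
open Cfsg.Agent.PG

noncomputable def n0 : Net :=
 (.cons 4 0x8
 (.cons 2 0x30
 (.cons 1 0x55
 (.cons 4 0x8
 .nil))))

noncomputable def n1 : Net :=
 (.cons 4 0xc
 (.cons 2 0x3
 (.cons 1 0x55
 (.cons 4 0xc
 .nil))))

noncomputable def n2 : Net :=
 (.cons 4 0xf
 (.cons 2 0x2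
 (.cons 1 0x44
 (.cons 2 0x20
 .nil))))

noncomputable def n3 : Net :=
 (.cons 4 0x4
 (.cons 2 0x2
 (.cons 1 0x14
 (.cons 2 0x22
 .nil))))

noncomputable def n4 : Net :=
 (.cons 4 0xa
 (.cons 2 0x20
 (.cons 1 0x44
 (.cons 2 0x20
 .nil))))

noncomputable def n5 : Net :=
 (.cons 4 0x8
 (.cons 2 0x30
 (.cons 1 0x44
 (.cons 4 0x4
 .nil))))

noncomputable def n6 : Net :=
 (.cons 4 0x8
 (.cons 2 0x30
 (.cons 1 0x55
 (.cons 4 0x8
 .nil))))

noncomputable def n7 : Net :=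
 (.cons 4 0x4
 (.cons 2 0x2
 (.cons 1 0x14
 (.cons 2 0x22
 .nil))))

noncomputable def n8 : Net :=
 (.cons 4 0x8
 (.cons 2 0x30
 (.cons 1 0x44
 (.cons 4 0x4
 .nil))))

noncomputable def A : List Net := [n0, n1, n2, n3, n4, n5, n6, n7, n8]

theorem hA : okA (2 ^ 3) A = true := by decide +kernel

theorem hlen : A.length = 9 := rfl

def tr2 : List ℕ := [1, 0x110, 0x111]

def ce2 : List (List (ℕ × ℕ)) := [[(1, 1)],
  [(2, 1)],
  [(0, 1)]]

noncomputable def cl2_l : List Claim := plainClaims 8 tr2 ce2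

def cj1 : List ℕ := []

def reps1 : List Rep := [⟨1, [(0x110, 0x110)],
   [(1, 1, 1, 1)], 3⟩,
  ⟨0x10e, [],
   [(1, 1, 2, 1),
    (0x111, 0x110, 2, 0x110),
    (0x110, 0x111, 1, 0x110)], 1⟩,
  ⟨0x10f, [],
   [(1, 1, 0, 1),
    (0x111, 0x111, 2, 0x111),
    (0x110, 0x110, 1, 0x110)], 1⟩]

noncomputable def cl1_l : List Claim := dcClaims 7 9 cj1 reps1

def cj0 : List ℕ := [0x111]

def reps0 : List Rep := [⟨1, [(0x10e, 0x10e), (0x110, 0x110)],
   [(1, 1, 1, 1)], 4⟩,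
  ⟨0x10c, [(0x110, 0x111)],
   [(1, 1, 0, 1),
    (0x10f, 0x10e10, 1, 0x1110e10),
    (0x10e, 0x10f10, 1, 0x1110f10)], 3⟩]

noncomputable def cl0_l : List Claim := dcClaims 6 8 cj0 reps0

def gn1 : List (ℕ × ℕ) := [(3, 0x10200050305),
  (4, 0x10400020103),
  (5, 0x10807090609),
  (6, 0x101),
  (7, 0x106),
  (8, 0x10a)]

noncomputable def gc1_l : List Claim := genClaims gn1

def gn2 : List (ℕ × ℕ) := [(0, 0x10c),
  (1, 0x1110f0c0e10),
  (2, 0x1100f0c0e11)]

noncomputable def gc2_l : List Claim := genClaims gn2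

def zcs0 : List (List ℕ × List ℕ × ℕ) := [([0x0220], [0x1100f100c0f, 0x1100f100c0e10, 0x1100e100c0e11], 1)]

noncomputable def zcls0_l : List Claim := zClaims [0x0218] zcs0

noncomputable def yp0_l : List Claim := [(powP [0x0218] 2, [])]

theorem cl2_0 : chk A 3 (cl2_l) = true := by decide +kernel

theorem ok2 : plainOK A 8 9 2 tr2 ce2 = true := by decide +kernel

theorem orb2 : orbCardB A 0 8 2 3 3 = true := by decide +kernel

theorem cl1_0 : chk A 3 (cl1_l) = true := by decide +kernel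

theorem ok1 : dcOK A 7 9 1 2 3 cj1 reps1 = true := by decide +kernel

theorem orb1 : orbCardB A 0 7 1 4 7 = true := by decide +kernel

theorem cl0_0 : chk A 3 (cl0_l) = true := by decide +kernel

theorem ok0 : dcOK A 6 8 0 1 4 cj0 reps0 = true := by decide +kernel

theorem orb0 : orbCardB A 0 6 0 3 8 = true := by decide +kernel

theorem gc1_0 : chk A 3 (gc1_l) = true := by decide +kernel

theorem gc2_0 : chk A 3 (gc2_l) = true := by decide +kernel

theorem genok : genEqOK A 3 6 gn1 gn2 = true := by decide +kernel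

theorem maxok0 : maxOK A 6 7 0 3 4 4 [0x10c] = true := by decide +kernel

theorem ncloks0_2 : nclOK A 8 9 2 3 [[0x0220]] [(1, 0)] = true := by decide +kernel

theorem ncloks0_1 : nclOK A 7 8 1 4 [] [(1, 0), (0x10f11, 0)] = true := by decide +kernel

theorem ncloks0_0 : nclOK A 6 7 0 4 [] [(1, 0), (1, 1), (0x10c0e, 0)] = true := by decide +kernel

theorem zcls0_0 : chk A 3 (zcls0_l) = true := by decide +kernel

theorem yp0_0 : chk A 3 (yp0_l) = true := by decide +kernel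

theorem card3 : Nat.card (K A 9) = 1 := card_K_last A (le_of_eq hlen)

theorem cl2 : ∀ c ∈ cl2_l, Holds A c :=
  (chk_spec hA cl2_0)

theorem stab2 : StabIs A 8 2 9 := stabIs_plain hA ok2 cl2

theorem card2 : Nat.card (K A 8) = 3 := card_K_step hA stab2 orb2 card3

theorem cl1 : ∀ c ∈ cl1_l, Holds A c :=
  (chk_spec hA cl1_0)

theorem stab1 : StabIs A 7 1 8 := stabIs_dc hA stab2 ok1 cl1

theorem card1 : Nat.card (K A 7) = 21 := card_K_step hA stab1 orb1 card2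

theorem cl0 : ∀ c ∈ cl0_l, Holds A c :=
  (chk_spec hA cl0_0)

theorem stab0 : StabIs A 6 0 7 := stabIs_dc hA stab1 ok0 cl0

theorem card0 : Nat.card (K A 6) = 168 := card_K_step hA stab0 orb0 card1

theorem fixTriv0 {B : Set ℕ} (h0 : 0 ∈ B) (h1 : 1 ∈ B) (h2 : 2 ∈ B) : FixTriv (K A 6) B :=
  fixTriv_step stab0 h0 <| fixTriv_step stab1 h1 <| fixTriv_step stab2 h2 <| fixTriv_last A (le_of_eq hlen) B

theorem fixTriv1 {B : Set ℕ} (h1 : 1 ∈ B) (h2 : 2 ∈ B) : FixTriv (K A 7) B :=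
  fixTriv_step stab1 h1 <| fixTriv_step stab2 h2 <| fixTriv_last A (le_of_eq hlen) B

theorem fixTriv2 {B : Set ℕ} (h2 : 2 ∈ B) : FixTriv (K A 8) B :=
  fixTriv_step stab2 h2 <| fixTriv_last A (le_of_eq hlen) B

theorem gc1 : ∀ c ∈ gc1_l, Holds A c :=
  (chk_spec hA gc1_0)

theorem gc2 : ∀ c ∈ gc2_l, Holds A c :=
  (chk_spec hA gc2_0)

theorem gen_eq : K (A.take 3) 0 = K A 6 := K_take_eq genok gc1 gc2

theorem max0 (L : Subgroup (Equiv.Perm ℕ)) (h1 : K A 7 ≤ L) (h2 : L ≤ K A 6) : L = K A 7 ∨ L = K A 6 :=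
  max_spec hA stab0 maxok0 h1 h2

theorem zcls0 : ∀ c ∈ zcls0_l, Holds A c :=
  (chk_spec hA zcls0_0)

theorem ncls0 (M : Subgroup (Equiv.Perm ℕ)) (hM : ∀ σ ∈ K A 6, ∀ n ∈ M, σ * n * σ⁻¹ ∈ M) (hy : pp A [0x0218] ∈ M) : K A 6 ≤ M :=
  have hz := z_mem hM hy (zc := zcs0) (by decide +kernel) zcls0
  ncl_step hA stab0 ncloks0_0 (by decide) hM (sub_z hz (by decide +kernel)) <|
  ncl_step hA stab1 ncloks0_1 (by decide) hM (sub_z hz (by decide +kernel)) <|
  ncl_step hA stab2 ncloks0_2 (by decide) hM (sub_z hz (by decide +kernel)) <|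
  K_last_le A (le_of_eq hlen) M

theorem yp0 : ∀ c ∈ yp0_l, Holds A c :=
  (chk_spec hA yp0_0)

theorem simple0 : IsSimpleGroup (K A 6) :=
  isSimpleGroup_K hA stab0 (exists_moved hA (j := 6) (by decide +kernel)) max0 (fixTriv0
    (mem_orbit_of_word hA (w := 1) (by decide +kernel))
    (mem_orbit_of_word hA (w := 0x10c) (by decide +kernel))
    (mem_orbit_of_word hA (w := 0x10c0f) (by decide +kernel)))
    (p := 2) (e := 1) (by norm_num) (by rw [card1]; norm_num) (pp_mem (l := [0x0218]) (by decide +kernel))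
    (pow_of_claim yp0) ncls0


end Cfsg.Agent.Lib.C4.B7
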